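import Mathlib

/-!
Relative subnormality and Wielandt's zipper lemma.
-/

namespace CfsgLib.Zipper

open Subgroup
open Pointwise

variable {G : Type*} [Group G]

/-- `A` is subnormal in `K`. -/
def SnIn (A K : Subgroup G) : Prop := (A.subgroupOf K).IsSubnormal

theorem SnIn.restrict {A H K : Subgroup G} (h : SnIn A K) (hHK : H ≤ K) : SnIn A H :=
  IsSubnormal.comap (Subgroup.inclusion hHK) h

theorem snIn_of_le_normalizer {A K : Subgroup G} (hAK : A ≤ K) (h : K ≤ normalizer (A : Set G)) :
    SnIn A K :=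
  ((normal_subgroupOf_iff_le_normalizer hAK).mpr h).isSubnormal

theorem SnIn.trans {A B K : Subgroup G} (hAB : A ≤ B) (hBK : B ≤ K) (h1 : SnIn A B) (h2 : SnIn B K) :
    SnIn A K := by
  refine IsSubnormal.trans (fun x hx => mem_subgroupOf.mpr (hAB (mem_subgroupOf.mp hx))) ?_ h2
  exact IsSubnormal.comap (subgroupOfEquivOfLe hBK).toMonoidHom h1

theorem isSubnormal_of_snIn_top {A : Subgroup G} (h : SnIn A ⊤) : A.IsSubnormal :=
  IsSubnormal.comap (topEquiv (G := G)).symm.toMonoidHom h

theorem SnIn.conj {A K : Subgroup G} (h : SnIn A K) (g : G) :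
    SnIn (MulAut.conj g • A) (MulAut.conj g • K) := by
  let f : ↥(MulAut.conj g • K) →* K :=
    { toFun := fun x => ⟨(MulAut.conj g)⁻¹ • (x : G), mem_pointwise_smul_iff_inv_smul_mem.mp x.2⟩
      map_one' := Subtype.ext (by simp)
      map_mul' := fun x y => Subtype.ext (by simp) }
  have : (MulAut.conj g • A).subgroupOf (MulAut.conj g • K) = (A.subgroupOf K).comap f := by
    ext x
    rw [mem_subgroupOf, mem_pointwise_smul_iff_inv_smul_mem, mem_comap, mem_subgroupOf]
    rfl
  unfold SnIn
  rw [this]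
  exact IsSubnormal.comap f h

theorem conj_smul_top (g : G) : MulAut.conj g • (⊤ : Subgroup G) = ⊤ :=
  eq_top_iff.mpr fun x _ => by rw [mem_pointwise_smul_iff_inv_smul_mem]; exact mem_top _

variable [Finite G]

theorem card_lt_of_lt {A B : Subgroup G} (h : A < B) : Nat.card A < Nat.card B :=
  lt_of_not_ge fun hle => h.ne (eq_of_le_of_card_ge h.le hle)

/-- A subnormal, proper subgroup lies in a proper normal subgroup. -/
theorem exists_normal_lt {S K : Subgroup G} (hSK : S < K) (h : SnIn S K) :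
    ∃ N : Subgroup G, S ≤ N ∧ N < K ∧ K ≤ normalizer (N : Set G) := by
  rcases h.lt_normal with htop | ⟨N, hN, hle, hlt⟩
  · exact absurd (subgroupOf_eq_top.mp htop) hSK.not_ge
  · refine ⟨N.map K.subtype, ?_, lt_of_le_of_ne (map_subtype_le _) ?_, ?_⟩
    · exact fun x hx => ⟨⟨x, hSK.le hx⟩, hle (mem_subgroupOf.mpr hx), rfl⟩
    · intro e
      refine hlt.ne ?_
      rw [← comap_map_eq_self_of_injective K.subtype_injective N, e, comap_subtype, subgroupOf_self]
    · have := (normal_subgroupOf_iff_le_normalizer (map_subtype_le (H := K) N)).mp (by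
        rw [← comap_subtype, comap_map_eq_self_of_injective K.subtype_injective]; exact hN)
      exact this

/-- The join of two subnormal subgroups, one normalising the other, is subnormal. -/
theorem snIn_sup_aux (n : ℕ) : ∀ (S T K : Subgroup G), Nat.card K ≤ n → S ≤ K → SnIn S K →
    T ≤ normalizer (S : Set G) → T ≤ normalizer (K : Set G) → SnIn T (K ⊔ T) → SnIn (S ⊔ T) (K ⊔ T) := by
  induction n with
  | zero => intro S T K h; exact absurd (Nat.card_pos (α := K)) (by omega)
  | succ n ih =>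
    intro S T K hc hSK hS hTS hTK hT
    rcases eq_or_lt_of_le hSK with rfl | hlt
    · exact snIn_of_le_normalizer le_rfl le_normalizer
    obtain ⟨N, hSN, hNK, hKN⟩ := exists_normal_lt hlt hS
    -- the intersection of the `T`-conjugates of `N`
    let K₁ : Subgroup G := ⨅ t ∈ K ⊔ T, MulAut.conj t • N
    have hK₁N : K₁ ≤ N := (iInf₂_le 1 (one_mem _)).trans (by simp)
    have hW : K ⊔ T ≤ normalizer (K₁ : Set G) := by
      have key : ∀ g ∈ K ⊔ T, ∀ x ∈ K₁, g * x * g⁻¹ ∈ K₁ := by
        intro g hg x hx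
        simp only [K₁, mem_iInf] at hx ⊢
        intro t ht
        have := hx (g⁻¹ * t) (mul_mem (inv_mem hg) ht)
        rw [mem_pointwise_smul_iff_inv_smul_mem] at this ⊢
        simpa [MulAut.smul_def, mul_assoc] using this
      intro g hg
      rw [mem_normalizer_iff]
      refine fun x => ⟨key g hg x, fun hx => ?_⟩
      have := key g⁻¹ (inv_mem hg) _ hx
      simpa [mul_assoc] using this
    have hKT : ∀ t ∈ K ⊔ T, ∃ k ∈ K, ∃ s ∈ T, t = s * k := by
      intro t ht
      have h1 : t ∈ ((T ⊔ K : Subgroup G) : Set G) := by rw [sup_comm]; exact ht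
      rw [coe_mul_of_left_le_normalizer_right _ _ hTK] at h1
      obtain ⟨s, hs, k, hk, rfl⟩ := h1
      exact ⟨k, hk, s, hs, rfl⟩
    have hSK₁ : S ≤ K₁ := by
      refine le_iInf₂ fun t ht x hx => ?_
      obtain ⟨k, hk, s, hs, rfl⟩ := hKT t ht
      rw [mem_pointwise_smul_iff_inv_smul_mem]
      simp only [MulAut.smul_def, ← map_inv, MulAut.conj_apply, inv_inv, mul_inv_rev]
      have h1 : s⁻¹ * x * s ∈ N := hSN ((mem_normalizer_iff''.mp (hTS hs) x).mp hx)
      have h2 := (mem_normalizer_iff''.mp (hKN hk) _).mp h1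
      simpa [mul_assoc] using h2
    set W := K ⊔ T
    have hK₁W : K₁ ≤ W := hK₁N.trans (hNK.le.trans le_sup_left)
    have hnW : (K₁.subgroupOf W).Normal := (normal_subgroupOf_iff_le_normalizer hK₁W).mpr hW
    have step : SnIn (K₁ ⊔ T) W := by
      unfold SnIn
      have e : (T.subgroupOf W ⊔ K₁.subgroupOf W) =
          ((T.subgroupOf W).map (QuotientGroup.mk' (K₁.subgroupOf W))).comap (QuotientGroup.mk' (K₁.subgroupOf W)) := by
        rw [comap_map_eq, QuotientGroup.ker_mk']
      rw [subgroupOf_sup hK₁W le_sup_right, sup_comm, e]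
      exact IsSubnormal.comap _ (IsSubnormal.quotient hT)
    have hrec := ih S T K₁ (by have := card_lt_of_lt (lt_of_le_of_lt hK₁N hNK); omega) hSK₁
      (hS.restrict (hK₁N.trans hNK.le)) hTS ((le_sup_right (a := K)).trans hW)
      (hT.restrict (sup_le hK₁W le_sup_right))
    exact hrec.trans (sup_le (hSK₁.trans le_sup_left) le_sup_right) (sup_le hK₁W le_sup_right) step

theorem snIn_sup {S T K : Subgroup G} (hSK : S ≤ K) (hTK : T ≤ K) (hS : SnIn S K) (hT : SnIn T K)
    (hTS : T ≤ normalizer (S : Set G)) : SnIn (S ⊔ T) K := by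
  have e : K ⊔ T = K := sup_eq_left.mpr hTK
  have h := snIn_sup_aux _ S T K le_rfl hSK hS hTS (hTK.trans le_normalizer) (e.symm ▸ hT)
  rwa [e] at h

/-- A subnormal subgroup that is not normal has a distinct conjugate inside its normalizer. -/
theorem exists_conj_le_normalizer (n : ℕ) : ∀ (A K : Subgroup G), Nat.card K ≤ n → A ≤ K → SnIn A K →
    ¬ K ≤ normalizer (A : Set G) →
    ∃ x ∈ K, x ∉ normalizer (A : Set G) ∧ MulAut.conj x • A ≤ normalizer (A : Set G) := by
  induction n with
  | zero => intro A K h; exact absurd (Nat.card_pos (α := K)) (by omega)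
  | succ n ih =>
    intro A K hc hAK hA hnot
    obtain ⟨N, hAN, hNK, hKN⟩ := exists_normal_lt
      (lt_of_le_of_ne hAK fun e => hnot (by rw [← e]; exact le_normalizer)) hA
    by_cases hN : N ≤ normalizer (A : Set G)
    · obtain ⟨x, hx, hxn⟩ := SetLike.not_le_iff_exists.mp hnot
      refine ⟨x, hx, hxn, ?_⟩
      rintro _ ⟨a, ha, rfl⟩
      exact hN ((mem_normalizer_iff.mp (hKN hx) a).mp (hAN ha))
    · obtain ⟨x, hx, h⟩ := ih A N (by have := card_lt_of_lt hNK; omega) hAN (hA.restrict hNK.le) hN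
      exact ⟨x, hNK.le hx, h⟩

theorem coatom_eq_aux (n : ℕ) : ∀ (A : Subgroup G), Nat.card G ≤ Nat.card A + n → ¬ A.IsSubnormal →
    (∀ H : Subgroup G, H ≠ ⊤ → A ≤ H → SnIn A H) →
    ∀ M K : Subgroup G, IsCoatom M → IsCoatom K → A ≤ M → A ≤ K → M = K := by
  induction n with
  | zero =>
    intro A hc hns _
    exact absurd (eq_top_of_le_card A (by simpa using hc) ▸ (Normal.isSubnormal inferInstance)) hns
  | succ n ih =>
    intro A hc hns hsn
    have hN : normalizer (A : Set G) ≠ ⊤ := fun h => hns (normalizer_eq_top_iff.mp h).isSubnormal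
    obtain ⟨M₀, hM₀, hNM₀⟩ := (eq_top_or_exists_le_coatom (normalizer (A : Set G))).resolve_left hN
    suffices h : ∀ K : Subgroup G, IsCoatom K → A ≤ K → K = M₀ by
      intro M K hM hK hAM hAK
      rw [h M hM hAM, h K hK hAK]
    intro K hK hAK
    by_cases hKN : K ≤ normalizer (A : Set G)
    · exact ((hK.le_iff.mp (hKN.trans hNM₀)).resolve_left hM₀.1).symm
    obtain ⟨x, hxK, hxN, hx⟩ := exists_conj_le_normalizer _ A K le_rfl hAK (hsn K hK.1 hAK) hKN
    set B := A ⊔ MulAut.conj x • A
    have hAB : A < B := by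
      refine lt_of_le_of_ne le_sup_left fun e => hxN ?_
      have hle : MulAut.conj x • A ≤ A := le_sup_right.trans_eq e.symm
      have heq : A.map (MulAut.conj x).toMonoidHom = A := eq_of_le_of_card_ge hle
        (Nat.card_congr (equivMapOfInjective A _ (MulAut.conj x).injective).toEquiv).le
      rw [mem_normalizer_iff]
      intro y
      refine ⟨fun hy => hle ⟨y, hy, rfl⟩, fun hy => ?_⟩
      rw [← heq] at hy
      obtain ⟨z, hz, he⟩ := mem_map.mp hy
      rwa [(MulAut.conj x).injective (he : (MulAut.conj x) z = (MulAut.conj x) y)] at hz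
    have hBN : B ≤ normalizer (A : Set G) := sup_le le_normalizer hx
    refine (ih B (by have := card_lt_of_lt hAB; omega) ?_ ?_ K M₀ hK hM₀ ?_ (hBN.trans hNM₀))
    · exact fun hB => hns (IsSubnormal.trans hAB.le (snIn_of_le_normalizer hAB.le hBN) hB)
    · intro H hH hBH
      have h1 : SnIn A (MulAut.conj x⁻¹ • H) := by
        refine hsn _ (fun e => hH ?_) fun a ha => ?_
        · have := congrArg (fun L => MulAut.conj x • L) e
          simpa [map_inv, smul_inv_smul, conj_smul_top] using this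
        · rw [mem_pointwise_smul_iff_inv_smul_mem, ← map_inv, inv_inv]
          exact hBH (le_sup_right (a := A) (smul_mem_pointwise_smul _ (MulAut.conj x) _ ha))
      have h2 := h1.conj x
      rw [map_inv, smul_inv_smul] at h2
      exact snIn_sup (le_sup_left.trans hBH) (le_sup_right.trans hBH) (hsn H hH (le_sup_left.trans hBH)) h2 hx
    · refine sup_le hAK fun y hy => ?_
      obtain ⟨a, ha, rfl⟩ := hy
      exact K.mul_mem (K.mul_mem hxK (hAK ha)) (K.inv_mem hxK)

/-- **Wielandt's zipper lemma.** -/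
theorem coatom_eq {A : Subgroup G} (hns : ¬ A.IsSubnormal)
    (hsn : ∀ H : Subgroup G, H ≠ ⊤ → A ≤ H → SnIn A H) {M K : Subgroup G} (hM : IsCoatom M)
    (hK : IsCoatom K) (hAM : A ≤ M) (hAK : A ≤ K) : M = K :=
  coatom_eq_aux _ A (Nat.le_add_left _ _) hns hsn M K hM hK hAM hAK

end CfsgLib.Zipper
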